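import Mathlib
import Cfsg.Prelude.Def_CaseTheorems
import Cfsg.Agent.S0058
import Cfsg.Agent.S0126
import Cfsg.Agent.S0143
import Cfsg.Agent.H547.SelfCent.Base
import Cfsg.Agent.H482.SylowNumbers
import Cfsg.Agent.Prune
set_option linter.all false
prune_inst 0x7f00000000000000000000000000000000000000000000000000000000000000000000000000000000000000000000000000000000000000000000000000000000000000000000000000000000000000003fffffffffffffffffffffffffffbeffbdffffffff
open scoped Cfsg.Agent.FastGrp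

/-!
# A prime `p` dividing some Sylow number of a simple group (for S3932)

`Row p S` : `p` divides the number of Sylow `r`-subgroups of `S`, for some prime `r`. If it fails, a Sylow `p`-subgroup
normalises a Sylow `r`-subgroup for every `r`.

* `exists_norm` : the normalised Sylow `r`-subgroup;
* `row_of_pair` : noncyclic Sylow `p`-subgroup and no commuting elements of orders `p`, `r`;
* `row_of_one` : at most one prime `r` whose Sylow subgroups admit automorphisms of order `p`.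
-/

set_option autoImplicit false
set_option linter.style.haveILetI false

namespace Cfsg.Agent.H512.SylNum

open Subgroup

/-- `p` divides some Sylow number -/
def Row (p : ℕ) (S : Type*) [Group S] : Prop := ∃ (r : ℕ) (_ : Fact r.Prime), p ∣ Nat.card (Sylow r S)

theorem Row.congr {p : ℕ} {S T : Type*} [Group S] [Group T] [Finite S] (e : S ≃* T) (h : Row p S) : Row p T := by
  obtain ⟨r, hr, h⟩ := h
  exact ⟨r, hr, by rwa [← Cfsg.Agent.H482.SylowNumbers.card_sylow_congr r e]⟩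

variable {G : Type*} [Group G] {p r : ℕ}

theorem not_row (h : ¬ Row p G) (r : ℕ) [hr : Fact r.Prime] : ¬ p ∣ Nat.card (Sylow r G) := fun hd =>
  h ⟨r, hr, hd⟩

/-- a `p`-subgroup normalises a Sylow `r`-subgroup when `p` does not divide their number -/
theorem exists_norm [Finite G] [hp : Fact p.Prime] [Fact r.Prime] (h : ¬ p ∣ Nat.card (Sylow r G)) {P : Subgroup G}
    (hP : IsPGroup p P) : ∃ R : Sylow r G, P ≤ normalizer ((R : Subgroup G) : Set G) := by
  obtain ⟨R, hR⟩ := IsPGroup.nonempty_fixed_point_of_prime_not_dvd_card hP (Sylow r G) h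
  refine ⟨R, fun g hg => ?_⟩
  have h1 : (⟨g, hg⟩ : P) • R = R := hR ⟨g, hg⟩
  exact Sylow.smul_eq_iff_mem_normalizer.1 h1

theorem conj_mem {P R : Subgroup G} (h : P ≤ normalizer (R : Set G)) {g x : G} (hg : g ∈ P) (hx : x ∈ R) :
    g * x * g⁻¹ ∈ R := (mem_normalizer_iff.1 (h hg) x).1 hx

theorem card_sylow_ne_one [Finite G] [hr : Fact r.Prime] (hd : r ∣ Nat.card G) (R : Sylow r G) : (R : Subgroup G) ≠ ⊥ := by
  intro hb
  have h1 := R.dvd_card_of_dvd_card hd
  rw [hb, card_bot] at h1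
  exact hr.out.one_lt.ne' (Nat.dvd_one.1 h1)

/-- a power of order `r` of a nontrivial element of an `r`-group -/
theorem exists_pow_order [hr : Fact r.Prime] {R : Subgroup G} (hR : IsPGroup r R) {x : G} (hx : x ∈ R)
    (hx1 : x ≠ 1) : ∃ n : ℕ, orderOf (x ^ n) = r := by
  obtain ⟨k, hk⟩ := (IsPGroup.iff_orderOf.1 hR) ⟨x, hx⟩
  rw [orderOf_mk] at hk
  have hk0 : k ≠ 0 := by
    rintro rfl
    rw [pow_zero, orderOf_eq_one_iff] at hk
    exact hx1 hk
  refine ⟨r ^ (k - 1), ?_⟩
  rw [orderOf_pow_of_dvd (by have := hr.out.pos; positivity) (by rw [hk]; exact pow_dvd_pow _ (by omega)), hk]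
  obtain ⟨j, rfl⟩ := Nat.exists_eq_succ_of_ne_zero hk0
  rw [Nat.succ_sub_one, pow_succ, Nat.mul_div_cancel_left _ (by have := hr.out.pos; positivity)]

/-- a noncyclic abelian `p`-group acting on a nontrivial `r`-group: some element of order `p` commutes with one of
order `r` -/
theorem exists_comm_of_rank [Finite G] [hp : Fact p.Prime] [hr : Fact r.Prime] (hpr : r ≠ p) {A R : Subgroup G}
    (hA : IsPGroup p A) (hAc : ∀ a ∈ A, ∀ b ∈ A, a * b = b * a) (hnc : ¬ IsCyclic A) (hR : IsPGroup r R)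
    (hR1 : R ≠ ⊥) (hN : A ≤ normalizer (R : Set G)) :
    ∃ a ∈ A, ∃ x ∈ R, orderOf a = p ∧ orderOf x = r ∧ a * x = x * a := by
  classical
  have hcomm : IsMulCommutative A := ⟨⟨fun a b => Subtype.ext (hAc a a.2 b b.2)⟩⟩
  have hcop : (Nat.card A).Coprime (Nat.card R) := by
    obtain ⟨m, hm⟩ := IsPGroup.iff_card.1 hA
    obtain ⟨n, hn⟩ := IsPGroup.iff_card.1 hR
    rw [hm, hn]
    exact Nat.Coprime.pow _ _ ((Nat.coprime_primes hp.out hr.out).2 hpr.symm)
  have hgen := Cfsg.Agent.S0058.result A R hnc hN hcop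
  by_contra hcon
  push Not at hcon
  apply hR1
  rw [← hgen, eq_bot_iff]
  refine iSup₂_le fun a ha => ?_
  intro y hy
  rw [mem_bot]
  by_contra hy1
  obtain ⟨n, hn⟩ := exists_pow_order hA ha.1 ha.2
  obtain ⟨m, hm⟩ := exists_pow_order hR hy.1 hy1
  refine hcon (a ^ n) (A.pow_mem ha.1 n) (y ^ m) (R.pow_mem hy.1 m) hn hm ?_
  have h1 : a * y = y * a := by
    have h2 : y ∈ centralizer ({a} : Set G) := hy.2
    rw [Cfsg.Agent.H393.Iso.mem_cent] at h2
    exact h2.symm
  exact (Commute.pow_pow (show Commute a y from h1) n m)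

/-- the same with a noncyclic `p`-group, `p` odd -/
theorem exists_comm_of_noncyclic [Finite G] [hp : Fact p.Prime] (hp2 : p ≠ 2) [hr : Fact r.Prime] (hpr : r ≠ p)
    {P R : Subgroup G} (hP : IsPGroup p P) (hnc : ¬ IsCyclic P) (hR : IsPGroup r R)
    (hR1 : R ≠ ⊥) (hN : P ≤ normalizer (R : Set G)) :
    ∃ a ∈ P, ∃ x ∈ R, orderOf a = p ∧ orderOf x = r ∧ a * x = x * a := by
  obtain ⟨A, -, hA, hcard⟩ := Cfsg.Agent.S0126.result hp2 hP hnc
  have hle : A.map P.subtype ≤ P := by
    rintro _ ⟨a, -, rfl⟩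
    exact a.2
  have hAp : IsPGroup p (A.map P.subtype) := hP.to_le hle
  have hAc : ∀ a ∈ A.map P.subtype, ∀ b ∈ A.map P.subtype, a * b = b * a := by
    rintro _ ⟨a, ha, rfl⟩ _ ⟨b, hb, rfl⟩
    have h1 := hA.1
    have h2 : (⟨a, ha⟩ : A) * ⟨b, hb⟩ = ⟨b, hb⟩ * ⟨a, ha⟩ := h1.is_comm.comm _ _
    exact congrArg (fun t : A => P.subtype (A.subtype t)) h2
  have hnA : ¬ IsCyclic (A.map P.subtype) := by
    intro hcyc
    have hcard' : Nat.card (A.map P.subtype) = p ^ 2 := by
      rw [← hcard]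
      exact Nat.card_congr ((A.equivMapOfInjective _ P.subtype_injective).symm.toEquiv)
    obtain ⟨g, hg⟩ := hcyc.exists_generator
    have hgo : orderOf g = p ^ 2 := by rw [orderOf_eq_card_of_forall_mem_zpowers hg, hcard']
    obtain ⟨a, ha, hga⟩ := g.2
    have h1 : a ^ p = 1 := hA.2 a ha
    have h2 : g ^ p = 1 := by
      apply Subtype.ext
      rw [coe_pow, ← hga, ← map_pow, h1, map_one]
      rfl
    have h3 := orderOf_dvd_of_pow_eq_one h2
    rw [hgo] at h3
    have h4 := Nat.le_of_dvd hp.out.pos h3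
    have h5 := hp.out.one_lt
    nlinarith
  obtain ⟨a, ha, x, hx, h1, h2, h3⟩ := exists_comm_of_rank hpr hAp hAc hnA hR hR1 (hle.trans hN)
  exact ⟨a, hle ha, x, hx, h1, h2, h3⟩

/-- an element of order `p` in the centre of a nontrivial `p`-group -/
theorem exists_center [Finite G] [hp : Fact p.Prime] {P : Subgroup G} (hP : IsPGroup p P) (hP1 : P ≠ ⊥) :
    ∃ x ∈ P, orderOf x = p ∧ ∀ y ∈ P, x * y = y * x := by
  have hnt : Nontrivial P := (nontrivial_iff_ne_bot P).2 hP1
  have hc := hP.center_nontrivial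
  obtain ⟨c, hc1⟩ := exists_ne (1 : center P)
  have hcx : ((c : P) : G) ≠ 1 := fun h => hc1 (Subtype.ext (Subtype.ext h))
  obtain ⟨n, hn⟩ := exists_pow_order hP (x := ((c : P) : G)) (c : P).2 hcx
  refine ⟨((c : P) : G) ^ n, P.pow_mem (c : P).2 n, hn, fun y hy => ?_⟩
  have h1 : (c : P) * ⟨y, hy⟩ = ⟨y, hy⟩ * (c : P) := ((mem_center_iff.1 c.2) ⟨y, hy⟩).symm
  have h2 : Commute ((c : P) : G) y := congrArg Subtype.val h1
  exact h2.pow_left n

theorem le_cent {P : Subgroup G} {x : G} (h : ∀ y ∈ P, x * y = y * x) : P ≤ centralizer ({x} : Set G) := by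
  intro y hy
  rw [Cfsg.Agent.H393.Iso.mem_cent]
  exact (h y hy).symm

theorem not_dvd_index_of_le [Finite G] [hr : Fact r.Prime] {C : Subgroup G} (R : Sylow r G) (h : (R : Subgroup G) ≤ C) :
    ¬ r ∣ C.index := fun hd => R.not_dvd_index (hd.trans (index_dvd_of_le h))

/-- the prime `r` does not divide the index of the centraliser of an element `x` of order `p`, if no `r ^ n - 1` with
`r ^ n ∣ |G|` is divisible by `p` and `p` does not divide the number of Sylow `r`-subgroups -/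
theorem not_dvd_index [Finite G] [hp : Fact p.Prime] [hr : Fact r.Prime] (hrp : r ≠ p) (h : ¬ p ∣ Nat.card (Sylow r G))
    (hrig : ∀ n, 0 < n → r ^ n ∣ Nat.card G → ¬ p ∣ r ^ n - 1) {P : Subgroup G} (hP : IsPGroup p P) {x : G}
    (hxP : x ∈ P) (hx : orderOf x = p) : ¬ r ∣ (centralizer ({x} : Set G)).index := by
  obtain ⟨R, hR⟩ := exists_norm (p := p) h hP
  refine not_dvd_index_of_le R (le_cent ?_)
  have hk : Nat.card R = r ^ (Nat.card G).factorization r := R.card_eq_multiplicity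
  refine Cfsg.Agent.H393.Iso.comm_of_normalizes hp.out hr.out hrp (d := (Nat.card G).factorization r) ?_ hk hx
    (fun y hy => conj_mem hR hxP hy) (Or.inl le_rfl)
  intro n hn hle
  exact hrig n hn ((pow_dvd_pow r hle).trans (Nat.ordProj_dvd _ _))

theorem ne_one_of_orderOf [hp : Fact p.Prime] {x : G} (hx : orderOf x = p) : x ≠ 1 := by
  rintro rfl
  rw [orderOf_one] at hx
  exact hp.out.one_lt.ne hx

/-- **Burnside**: an element of order `p` whose centraliser has prime power index -/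
theorem false_of_index [Finite G] [IsSimpleGroup G] (hna : ∃ a b : G, a * b ≠ b * a) {x : G} (hx : x ≠ 1) {r : ℕ} (hr : r.Prime)
    (h : ∀ s, s.Prime → s ≠ r → ¬ s ∣ (centralizer ({x} : Set G)).index) : False := by
  have h1 : (centralizer ({x} : Set G)).index = r ^ ((centralizer ({x} : Set G)).index).primeFactorsList.length := by
    refine Nat.eq_prime_pow_of_unique_prime_dvd Subgroup.index_ne_zero_of_finite ?_
    intro d hd hdd
    by_contra hne
    exact h d hd hne hdd
  have h2 := Cfsg.Agent.S0143.result r _ hr x hx h1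
  obtain ⟨a, b, hab⟩ := hna
  have := Fact.mk h2
  have hcyc : IsCyclic G := isCyclic_of_prime_card (p := Nat.card G) rfl
  exact hab ((IsCyclic.isMulCommutative (α := G)).is_comm.comm a b)

/-- **E-lemma**: at most one prime `r₀` whose Sylow subgroups may admit automorphisms of order `p` -/
theorem row_of_one [Finite G] [hp : Fact p.Prime] [IsSimpleGroup G] (hna : ∃ a b : G, a * b ≠ b * a) (hd : p ∣ Nat.card G)
    {r₀ : ℕ} (hr₀ : r₀.Prime)
    (h : ∀ r, r.Prime → r ≠ p → r ≠ r₀ → ∀ n, 0 < n → r ^ n ∣ Nat.card G → ¬ p ∣ r ^ n - 1) : Row p G := by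
  by_contra hrow
  obtain ⟨P⟩ : Nonempty (Sylow p G) := inferInstance
  obtain ⟨x, hxP, hx, hc⟩ := exists_center P.2 (card_sylow_ne_one hd P)
  refine false_of_index hna (ne_one_of_orderOf hx) hr₀ fun s hs hs0 => ?_
  have hsf := Fact.mk hs
  by_cases hsp : s = p
  · subst hsp
    exact not_dvd_index_of_le P (le_cent hc)
  · exact not_dvd_index hsp (not_row hrow s) (h s hs hsp hs0) P.2 hxP hx

/-- **Borel lemma**: elements normalising a Sylow `ℓ`-subgroup `U` have `m`-th power in `U` -/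
theorem row_of_exp [Finite G] [hp : Fact p.Prime] (hp2 : p ≠ 2) (hd : p ∣ Nat.card G) {ℓ : ℕ} (hl : ℓ.Prime) (hlp : ℓ ≠ p)
    {m : ℕ} (hm0 : m ≠ 0)
    (hexp : ∀ (_ : Fact ℓ.Prime) (U : Sylow ℓ G), ∀ x ∈ normalizer ((U : Subgroup G) : Set G), x ^ m ∈ U)
    (h2 : p ∣ m → p ^ (m.factorization p + 1) ∣ Nat.card G)
    (h3 : p ∣ m → ∃ r, r.Prime ∧ r ≠ p ∧ r ∣ Nat.card G ∧
      ∀ a x : G, orderOf a = p →
        (∀ _ : Fact ℓ.Prime, ∃ U : Sylow ℓ G, a ∈ normalizer ((U : Subgroup G) : Set G)) →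
        orderOf x = r → a * x ≠ x * a) : Row p G := by
  by_contra hrow
  have hlf := Fact.mk hl
  obtain ⟨P⟩ : Nonempty (Sylow p G) := inferInstance
  obtain ⟨U, hU⟩ := exists_norm (p := p) (not_row hrow ℓ) P.2
  -- elements of `P` satisfy `x ^ m = 1`
  have hPm : ∀ x ∈ (P : Subgroup G), x ^ m = 1 := by
    intro x hx
    have h1 := hexp hlf U x (hU hx)
    obtain ⟨i, hi⟩ := (IsPGroup.iff_orderOf.1 P.2) ⟨x ^ m, pow_mem hx m⟩
    obtain ⟨j, hj⟩ := (IsPGroup.iff_orderOf.1 U.2) ⟨x ^ m, h1⟩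
    rw [orderOf_mk] at hi hj
    have h4 : (p ^ i).Coprime (ℓ ^ j) := Nat.Coprime.pow _ _ ((Nat.coprime_primes hp.out hl).2 hlp.symm)
    rw [← hi, ← hj, Nat.coprime_self] at h4
    exact orderOf_eq_one_iff.1 h4
  have hpm : p ∣ m := by
    obtain ⟨x, hxP, hx, -⟩ := exists_center P.2 (card_sylow_ne_one hd P)
    rw [← hx]
    exact orderOf_dvd_of_pow_eq_one (hPm x hxP)
  -- `P` is not cyclic
  have hnc : ¬ IsCyclic (P : Subgroup G) := by
    intro hcyc
    obtain ⟨g, hg⟩ := hcyc.exists_generator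
    have hgo : orderOf (g : G) = Nat.card P := by
      rw [orderOf_coe, orderOf_eq_card_of_forall_mem_zpowers hg]
    have h4 : orderOf (g : G) ∣ m := orderOf_dvd_of_pow_eq_one (hPm g g.2)
    have h5 : p ^ (m.factorization p + 1) ∣ Nat.card P := P.pow_dvd_card_of_pow_dvd_card (h2 hpm)
    exact Nat.pow_succ_factorization_not_dvd hm0 hp.out (h5.trans (hgo ▸ h4))
  obtain ⟨r, hr, hrp, hrd, hno⟩ := h3 hpm
  have hrf := Fact.mk hr
  obtain ⟨R, hR⟩ := exists_norm (p := p) (not_row hrow r) P.2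
  obtain ⟨a, ha, x, -, h4, h5, h6⟩ := exists_comm_of_noncyclic hp2 hrp P.2 hnc R.2 (card_sylow_ne_one hrd R) hR
  exact hno a x h4 (fun _ => ⟨U, hU ha⟩) h5 h6

end Cfsg.Agent.H512.SylNum
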